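import Cfsg.Agent.Lib.M24Pair4.ThreeSquare
import Cfsg.Agent.Lib.ThreeTrans.Torsion.ThirteenTwentyThree

/-! Subgroups of order thirteen in groups of type M(24). -/

set_option autoImplicit false

namespace CfsgLib.M24Pair4

open CfsgLib.ThreeTrans CfsgLib.ThreeTrans.Tower CfsgLib.ThreeTrans.Torsion

universe u

variable {G : Type u} [Group G] [Finite G] {D : Set G}

/-- What is used about the fixed members of a subgroup of order thirteen. -/
structure Six (D : Set G) (X : Subgroup G) : Prop where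
  card : (fixD D X).ncard = 6
  norm : Nat.card (Subgroup.normalizer (X : Set G)) = 5616
  far_two : ∀ a ∈ fixD D X, (fixD D X ∩ far D a).ncard = 2
  near_three : ∀ a ∈ fixD D X, (fixD D X ∩ Dd D a).ncard = 3
  near_far : ∀ a ∈ fixD D X, ∀ y ∈ fixD D X ∩ Dd D a, ∀ z ∈ fixD D X ∩ Dd D a, y ≠ z → ¬ Commute y z

theorem exists_six (hD : Cfsg.IsThreeTranspositionGroup D) (hprim : Cfsg.IsPrimitiveUnderConj D)
    (h : Cfsg.IsOfTypeM24 G D) {X : Subgroup G} (hX : Nat.card X = 13) : Six D X := by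
  haveI : Fact (Nat.Prime 13) := ⟨by norm_num⟩
  have hc := conjClosed_of_group hD
  have L := local24 hD hprim h
  obtain ⟨hCd, -⟩ := orders24 hD hprim h
  obtain ⟨Y, _, _, E, hE, hp, h23, S, hQ⟩ := data24 hD hprim h
  have hodd : Odd (Nat.card X) := by rw [hX]; exact ⟨6, rfl⟩
  have loc : ∀ a ∈ fixD D X, (fixD D X ∩ Dd D a).ncard = 3 ∧ (fixD D X ∩ far D a).ncard = 2 ∧
      (∀ y ∈ fixD D X ∩ Dd D a, ∀ z ∈ fixD D X ∩ Dd D a, y ≠ z → ¬ Commute y z) ∧
      Nat.card (Subgroup.normalizer (X : Set G) ⊓ Subgroup.centralizer ({a} : Set G) : Subgroup G) = 936 := by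
    intro a ha
    obtain ⟨haD, hXa⟩ := mem_fixD.1 ha
    obtain ⟨Q⟩ := hQ a haD
    obtain ⟨⟨Z⟩, -, hN⟩ := thirteen23 hE hp h23 (X := Q.down X) (by rw [Q.card_down hXa hodd, hX])
    have h3 : (fixD D X ∩ Dd D a).ncard = 3 := by
      rw [Q.ncard_fix hXa hodd, ← Z.img, Set.ncard_image_of_injective _ Z.inj, ncard_swaps]
      decide
    have hN' : Nat.card (Subgroup.normalizer (X : Set G) ⊓ Subgroup.centralizer ({a} : Set G) : Subgroup G) = 936 := by
      rw [Q.card_normalizer hXa hodd, hN]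
    refine ⟨h3, ?_, fun y hy z hz hyz hcm => ?_, hN'⟩
    · have hfar := fixD_cases ha
      rw [h3] at hfar
      have hmod := fixD_modEq hc hX
      rw [L.card, hfar] at hmod
      have hne : (fixD D X ∩ far D a).Nonempty := by
        rw [← Set.ncard_pos (Set.toFinite _)]; omega
      have hdvd := fix_orbit hc (fun b hb b' hb' => L.farT a haD b hb.1 b' hb'.1 hb.2 hb'.2)
        (fun g hg b hb => far_stable hc hg hb) hX ha (by rw [hCd a haD]; norm_num) hne
      rw [hN'] at hdvd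
      have hle : (fixD D X ∩ far D a).ncard ≤ 72 := by
        have := Nat.le_of_dvd (by norm_num) hdvd
        omega
      interval_cases hn : (fixD D X ∩ far D a).ncard <;> omega
    · let y' : ↥(Subgroup.centralizer ({a} : Set G)) := ⟨y, mem_centralizer_of_commute hy.2.2.2.symm⟩
      let z' : ↥(Subgroup.centralizer ({a} : Set G)) := ⟨z, mem_centralizer_of_commute hz.2.2.2.symm⟩
      obtain ⟨σ, hσ, eσ⟩ := (Set.ext_iff.1 Z.img _).2 ((Q.fix_iff hXa hodd y' hy.2).1 hy.1)
      obtain ⟨τ, hτ, eτ⟩ := (Set.ext_iff.1 Z.img _).2 ((Q.fix_iff hXa hodd z' hz.2).1 hz.1)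
      have hc2 : Commute (Q.Φ y') (Q.Φ z') := (show Commute y' z' from Subtype.ext hcm.eq).map Q.Φ
      rw [← eσ, ← eτ] at hc2
      have hst : σ * τ = τ * σ := Z.inj (by rw [map_mul, map_mul]; exact hc2.eq)
      obtain ⟨i, j, hij, rfl⟩ := hσ
      obtain ⟨k, l, hkl, rfl⟩ := hτ
      have := (by decide : ∀ i j k l : Fin 3, i ≠ j → k ≠ l →
        Equiv.swap i j * Equiv.swap k l = Equiv.swap k l * Equiv.swap i j → Equiv.swap i j = Equiv.swap k l)
        i j k l hij hkl hst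
      rw [this, eτ] at eσ
      exact hyz (congrArg Subtype.val (Q.bij.injOn (x₁ := y') hy.2 (x₂ := z') hz.2 eσ.symm))
  obtain ⟨a, ha⟩ := nonempty_fix hD hX L.card (by norm_num)
  obtain ⟨h3, h2, -, hN⟩ := loc a ha
  have hcard : (fixD D X).ncard = 6 := by rw [fixD_cases ha, h3, h2]
  refine ⟨hcard, ?_, fun x hx => (loc x hx).2.1, fun x hx => (loc x hx).1, fun x hx => (loc x hx).2.2.1⟩
  have htr : ∀ b ∈ fixD D X, ∃ g ∈ Subgroup.normalizer (X : Set G), g * a * g⁻¹ = b := by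
    intro b hb
    obtain ⟨haD, haX⟩ := mem_fixD.1 ha
    obtain ⟨hbD, hbX⟩ := mem_fixD.1 hb
    obtain ⟨g, hg⟩ := hprim.1 a haD b hbD
    obtain ⟨n, -, hn, e⟩ := exists_normalizer (X := X) (K := ⊤) le_top (fun Y' Y'' _ _ h1 h2 c1 c2 => by
      obtain ⟨k, hk, e⟩ := conj_of_card (Subgroup.centralizer ({b} : Set G)) (p := 13)
        (by rw [hCd b hbD]; norm_num) (fun y hy => mem_centralizer_of_commute (h1 y hy))
        (fun y hy => mem_centralizer_of_commute (h2 y hy)) (c1.trans hX) (c2.trans hX)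
      exact ⟨k, trivial, Subgroup.mem_centralizer_singleton_iff.1 hk, e⟩) haX hbX trivial hg
    exact ⟨n, hn, e⟩
  rw [card_eq_orbit_mul _ ha (fun k hk => conj_fixD hc hk ha) htr, hcard, hN]

namespace Six

variable {X : Subgroup G} (S : Six D X)
include S

/-- The fixed members form two triangles. -/
theorem exists_four : ∃ a b c d : G, a ∈ fixD D X ∧ b ∈ fixD D X ∧ c ∈ fixD D X ∧ d ∈ fixD D X ∧
    ¬ Commute a d ∧ ¬ Commute b c ∧ Commute a b ∧ Commute a c ∧ Commute d b ∧ Commute d c := by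
  obtain ⟨a, ha⟩ : (fixD D X).Nonempty := (Set.ncard_pos (Set.toFinite _)).1 (by rw [S.card]; norm_num)
  obtain ⟨d, hd⟩ : (fixD D X ∩ far D a).Nonempty :=
    (Set.ncard_pos (Set.toFinite _)).1 (by rw [S.far_two a ha]; norm_num)
  obtain ⟨b, c, e, hbc, hbe, hce, hB⟩ := Set.ncard_eq_three.1 (S.near_three a ha)
  have m : ∀ x ∈ ({b, c, e} : Set G), x ∈ fixD D X ∩ Dd D a := fun x hx => by rw [hB]; exact hx
  have hb := m b (by simp)
  have hc := m c (by simp)
  have he := m e (by simp)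
  have key : ∀ x y z, x ∈ fixD D X ∩ Dd D a → y ∈ fixD D X ∩ Dd D a → z ∈ fixD D X ∩ Dd D a → x ≠ y →
      x ≠ z → y ≠ z → Commute d x := by
    intro x y z hx hy hz hxy hxz hyz
    by_contra hn
    have hfar : ({y, z} : Set G) = fixD D X ∩ far D x := by
      refine Set.eq_of_subset_of_ncard_le ?_ (by rw [S.far_two x hx.1, Set.ncard_pair hyz]) (Set.toFinite _)
      rintro w (rfl | rfl)
      exacts [⟨hy.1, hy.2.1, S.near_far a ha _ hx _ hy hxy⟩, ⟨hz.1, hz.2.1, S.near_far a ha _ hx _ hz hxz⟩]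
    have hdm : d ∈ fixD D X ∩ far D x := ⟨hd.1, hd.2.1, fun e => hn e.symm⟩
    rw [← hfar] at hdm
    rcases hdm with e' | e'
    · exact hd.2.2 (e' ▸ hy.2.2.2)
    · exact hd.2.2 (e' ▸ hz.2.2.2)
  exact ⟨a, b, c, d, ha, hb.1, hc.1, hd.1, hd.2.2, S.near_far a ha b hb c hc hbc, hb.2.2.2, hc.2.2.2,
    key b c e hb hc he hbc hbe hce, key c b e hc hb he hbc.symm hce hbe⟩

/-- Four fixed members in the pattern generate what all six generate. -/
theorem fix_le (hD : Cfsg.IsThreeTranspositionGroup D) {a b c d : G} (ha : a ∈ fixD D X) (hb : b ∈ fixD D X)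
    (hc : c ∈ fixD D X) (hd : d ∈ fixD D X) (had : ¬ Commute a d) (hbc : ¬ Commute b c) (hab : Commute a b)
    (hac : Commute a c) (hdb : Commute d b) : fixD D X ⊆ Subgroup.closure ({a, b, c, d} : Set G) := by
  have hcl := conjClosed_of_group hD
  have ma : ∀ x ∈ ({a, b, c, d} : Set G), x ∈ Subgroup.closure ({a, b, c, d} : Set G) :=
    fun x hx => Subgroup.subset_closure hx
  have conj_mem : ∀ x y, x ∈ Subgroup.closure ({a, b, c, d} : Set G) → y ∈ Subgroup.closure ({a, b, c, d} : Set G) →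
      x * y * x⁻¹ ∈ Subgroup.closure ({a, b, c, d} : Set G) :=
    fun x y hx hy => mul_mem (mul_mem hx hy) (inv_mem hx)
  have hne : ∀ {x y : G}, ¬ Commute x y → x * y * x⁻¹ ≠ y := fun hn e => hn (mul_inv_eq_iff_eq_mul.1 e)
  have hfar : ({d, a * d * a⁻¹} : Set G) = fixD D X ∩ far D a := by
    refine Set.eq_of_subset_of_ncard_le ?_ (by rw [S.far_two a ha, Set.ncard_pair (hne had).symm])
      (Set.toFinite _)
    rintro w (rfl | rfl)
    · exact ⟨hd, hd.1, had⟩
    · refine ⟨fixD_closed hcl ha hd, (fixD_closed hcl ha hd).1, fun e => had ?_⟩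
      exact (commute_conj_iff a a d).1 (by rwa [mul_inv_cancel_right])
  have hab' : b ≠ a := fun e => hbc (e ▸ hac)
  have hac' : c ≠ a := fun e => hbc (e ▸ hab.symm)
  have hnb : b * c * b⁻¹ ≠ b := fun e => hbc (by
    have : c = b := mul_left_cancel (mul_right_cancel (e.trans (mul_inv_cancel_right b b).symm))
    rw [this])
  have hnear : ({b, c, b * c * b⁻¹} : Set G) = fixD D X ∩ Dd D a := by
    refine Set.eq_of_subset_of_ncard_le ?_ ?_ (Set.toFinite _)
    · rintro w (rfl | rfl | rfl)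
      · exact ⟨hb, hb.1, hab', hab⟩
      · exact ⟨hc, hc.1, hac', hac⟩
      · refine ⟨fixD_closed hcl hb hc, (fixD_closed hcl hb hc).1, fun e => hac' ?_,
          (hab.mul_right hac).mul_right hab.inv_right⟩
        exact mul_left_cancel (mul_right_cancel (e.trans (by rw [hab.symm.eq, mul_inv_cancel_right] :
          a = b * a * b⁻¹)))
    · rw [S.near_three a ha, Set.ncard_eq_three.2 ⟨b, c, _, fun e => hbc (e ▸ Commute.refl c), hnb.symm,
        (hne hbc).symm, rfl⟩]
  intro x hx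
  by_cases e : x = a
  · exact e ▸ ma a (by simp)
  by_cases hx' : Commute a x
  · have : x ∈ fixD D X ∩ Dd D a := ⟨hx, hx.1, e, hx'⟩
    rw [← hnear] at this
    rcases this with rfl | rfl | rfl
    exacts [ma _ (by simp), ma _ (by simp), conj_mem _ _ (ma _ (by simp)) (ma _ (by simp))]
  · have : x ∈ fixD D X ∩ far D a := ⟨hx, hx.1, hx'⟩
    rw [← hfar] at this
    rcases this with rfl | rfl
    exacts [ma _ (by simp), conj_mem _ _ (ma _ (by simp)) (ma _ (by simp))]

end Six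

/-- In `G₂(3)` a subgroup of order thirteen contains its centraliser. -/
theorem g23_self {B : Subgroup CfsgLib.KnownSimple.GTwoThree.G23} (hB : Nat.card B = 13)
    {g : CfsgLib.KnownSimple.GTwoThree.G23} (hg : ∀ x ∈ B, Commute g x) : g ∈ B := by
  haveI : Fact (Nat.Prime 13) := ⟨by norm_num⟩
  obtain ⟨h1, h2⟩ := CfsgLib.KnownSimple.GTwoThree.centraliser_cyclic (p := 13)
    CfsgLib.KnownSimple.GTwoThree.rep_elt13 CfsgLib.KnownSimple.GTwoThree.x13_pow
    (by rw [CfsgLib.KnownSimple.GTwoThree.x13]; decide +kernel) (fun Y => CfsgLib.KnownSimple.GTwoThree.x13_centraliser)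
  set w := CfsgLib.KnownSimple.GTwoThree.elt CfsgLib.KnownSimple.GTwoThree.word13
  obtain ⟨t, -, ht⟩ := conj_of_card (⊤ : Subgroup CfsgLib.KnownSimple.GTwoThree.G23) (p := 13)
    (by rw [Subgroup.card_top, CfsgLib.KnownSimple.GTwoThree.card_G23]; norm_num) le_top le_top hB
    (show Nat.card (Subgroup.zpowers w) = 13 by rw [Nat.card_zpowers, h1])
  have hw : t⁻¹ * w * t ∈ B := by
    rw [← mem_map_conj, ht]; exact Subgroup.mem_zpowers w
  have h3 : t * g * t⁻¹ ∈ B.map (MulAut.conj t).toMonoidHom := by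
    rw [ht]
    refine h2 _ ?_
    have := (commute_conj_iff t g (t⁻¹ * w * t)).2 (hg _ hw)
    rwa [show t * (t⁻¹ * w * t) * t⁻¹ = w by group] at this
  rw [mem_map_conj, show t⁻¹ * (t * g * t⁻¹) * t = g by group] at h3
  exact h3

end CfsgLib.M24Pair4
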