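import Cfsg.Agent.Lib.M24Pair4.Pairs
import Cfsg.Agent.Lib.ThreeTrans.Torsion.SymRec

/-! The group generated by two commuting non-commuting pairs of members. -/

set_option autoImplicit false

namespace CfsgLib.M24Pair4

open CfsgLib.ThreeTrans CfsgLib.ThreeTrans.Tower Equiv

variable {G : Type*} [Group G] [Finite G]

omit [Finite G] in
/-- A non-commuting pair generates a symmetric group of degree three. -/
theorem exists_pair_hom {D : Set G} (hD : Cfsg.IsThreeTranspositionGroup D) {a d : G} (ha : a ∈ D) (hd : d ∈ D)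
    (h : ¬ Commute a d) :
    ∃ φ : Perm (Fin 3) →* G, Function.Injective φ ∧ φ.range = Subgroup.closure ({a, d} : Set G) := by
  obtain ⟨φ, hφ, -, hinj⟩ := CfsgLib.ThreeTrans.Torsion.exists_path_hom hD.1 (conjClosed_of_group hD).conj
    ![a, d] (fun i => by fin_cases i; exacts [ha, hd])
    (fun i j hij => by fin_cases i <;> fin_cases j <;> simp at hij)
    (fun i j hij => by fin_cases i <;> fin_cases j <;> first | exact h | simp at hij)
  refine ⟨φ, hinj (Or.inl rfl), ?_⟩
  have h0 : φ (swap 0 1) = a := hφ 0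
  have h1 : φ (swap 1 2) = d := hφ 1
  refine le_antisymm ?_ ((Subgroup.closure_le _).2 ?_)
  · rintro _ ⟨σ, rfl⟩
    have ma : a ∈ Subgroup.closure ({a, d} : Set G) := Subgroup.subset_closure (by simp)
    have md : d ∈ Subgroup.closure ({a, d} : Set G) := Subgroup.subset_closure (by simp)
    obtain e | e | e | e | e | e := (by decide : ∀ σ : Perm (Fin 3), σ = 1 ∨ σ = swap 0 1 ∨ σ = swap 1 2 ∨
        σ = swap 0 1 * swap 1 2 ∨ σ = swap 1 2 * swap 0 1 ∨ σ = swap 0 1 * swap 1 2 * swap 0 1) σ <;>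
      subst e <;> simp only [map_one, map_mul, h0, h1]
    exacts [one_mem _, ma, md, mul_mem ma md, mul_mem md ma, mul_mem (mul_mem ma md) ma]
  · rintro x (rfl | rfl)
    exacts [⟨_, h0⟩, ⟨_, h1⟩]

omit [Finite G] in
/-- Four members in the pattern generate a group of order 36 with trivial centre. -/
theorem square {D : Set G} (hD : Cfsg.IsThreeTranspositionGroup D) {a b c d : G} (ha : a ∈ D) (hb : b ∈ D)
    (hc : c ∈ D) (hd : d ∈ D) (had : ¬ Commute a d) (hbc : ¬ Commute b c) (hab : Commute a b) (hac : Commute a c)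
    (hdb : Commute d b) (hdc : Commute d c) :
    Nat.card (Subgroup.closure ({a, b, c, d} : Set G)) = 36 ∧
      Subgroup.closure ({a, b, c, d} : Set G) ⊓
        Subgroup.centralizer ((Subgroup.closure ({a, b, c, d} : Set G) : Subgroup G) : Set G) = ⊥ := by
  obtain ⟨φ₁, i₁, r₁⟩ := exists_pair_hom hD ha hd had
  obtain ⟨φ₂, i₂, r₂⟩ := exists_pair_hom hD hb hc hbc
  have hcm : ∀ σ τ, Commute (φ₁ σ) (φ₂ τ) := by
    intro σ τ
    have h1 : φ₁ σ ∈ Subgroup.closure ({a, d} : Set G) := r₁ ▸ ⟨σ, rfl⟩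
    have h2 : φ₂ τ ∈ Subgroup.closure ({b, c} : Set G) := r₂ ▸ ⟨τ, rfl⟩
    have h3 : Subgroup.closure ({b, c} : Set G) ≤
        Subgroup.centralizer ((Subgroup.closure ({a, d} : Set G) : Subgroup G) : Set G) := by
      rw [Subgroup.centralizer_closure, Subgroup.closure_le]
      intro x hx
      refine Subgroup.mem_centralizer_iff.2 fun y hy => ?_
      rcases hx with rfl | rfl <;> rcases hy with rfl | rfl
      exacts [hab.eq, hdb.eq, hac.eq, hdc.eq]
    exact Subgroup.mem_centralizer_iff.1 (h3 h2) _ h1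
  let ψ := φ₁.noncommCoprod φ₂ hcm
  have hψ : ∀ σ τ, ψ (σ, τ) = φ₁ σ * φ₂ τ := fun σ τ => MonoidHom.noncommCoprod_apply _ _ _ _
  have hz : ∀ σ : Perm (Fin 3), (∀ τ, σ * τ = τ * σ) → σ = 1 := by decide
  have hinj : Function.Injective ψ := by
    rw [injective_iff_map_eq_one]
    rintro ⟨σ, τ⟩ h
    rw [hψ] at h
    have hσ : σ = 1 := hz σ fun ρ => i₁ (by
      rw [map_mul, map_mul, eq_inv_of_mul_eq_one_left h]
      exact ((hcm ρ τ).inv_right.symm.eq))
    subst hσ
    rw [map_one, one_mul, ← map_one φ₂] at h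
    exact Prod.ext rfl (i₂ h)
  have hr : ψ.range = Subgroup.closure ({a, b, c, d} : Set G) := by
    rw [MonoidHom.noncommCoprod_range, r₁, r₂, ← Subgroup.closure_union]
    congr 1
    ext x
    simp only [Set.mem_union, Set.mem_insert_iff, Set.mem_singleton_iff]
    tauto
  rw [← hr]
  refine ⟨?_, ?_⟩
  · rw [← Nat.card_congr (MonoidHom.ofInjective hinj).toEquiv, Nat.card_prod, Nat.card_eq_fintype_card,
      Fintype.card_perm, Fintype.card_fin]
    rfl
  · rw [Subgroup.eq_bot_iff_forall]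
    rintro _ ⟨⟨⟨σ, τ⟩, rfl⟩, hc'⟩
    have hcc : ∀ p, (σ, τ) * p = p * (σ, τ) := fun p => hinj (by
      rw [map_mul, map_mul]
      exact (Subgroup.mem_centralizer_iff.1 hc' _ ⟨p, rfl⟩).symm)
    rw [hz σ (fun ρ => congrArg Prod.fst (hcc (ρ, 1))), hz τ (fun ρ => congrArg Prod.snd (hcc (1, ρ)))]
    exact map_one ψ

end CfsgLib.M24Pair4
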